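import Cfsg.Agent.Lib.Psx.NLib
import Cfsg.Agent.Lib.Psx.Bin

set_option autoImplicit false

namespace CfsgLib.Psx

namespace Num1

/-- the primes up to 151 -/
def ps : List ℕ := [2, 3, 5, 7, 11, 13, 17, 19, 23, 29, 31, 37, 41, 43, 47, 53, 59, 61, 67, 71, 73, 79, 83, 89, 97, 101, 103, 107, 109, 113, 127, 131, 137, 139, 149, 151]

theorem ps_prime : ∀ p ∈ ps, p.Prime := by
  simp only [ps, List.forall_mem_cons]
  norm_num

theorem mem_ps {p : ℕ} (hp : p.Prime) (h : p ≤ 151) : p ∈ ps := by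
  have k : ∀ p < 152, p ∈ ps ∨ p < 2 ∨ ∃ d ∈ [2, 3, 5, 7, 11], 1 < d ∧ d < p ∧ d ∣ p := by decide +kernel
  rcases k p (by omega) with h | h | ⟨d, -, h1, h2, h3⟩
  · exact h
  · exact absurd hp.two_le (by omega)
  · rcases (Nat.dvd_prime hp).1 h3 with h | h <;> omega

/-- the sum over the primes up to `n` -/
def sm (n : ℕ) (g : ℕ → ℕ) : ℕ := (ps.map fun p => if p ≤ n then vf p (n / p) + g p else 0).sum

theorem om_le {n t N : ℕ} (hn : n ≤ 151) (hc : Com n t N) {c : ℕ → ℕ}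
    (h : ∀ p, p.Prime → padicValNat p N ≤ padicValNat p (n / p).factorial + c p) :
    Om N ≤ sm n fun p => min (c p) (rS n t p) := by
  rw [om_eq_sum hc.pos fun p hp => hc.gt hp, sm, ← List.sum_toFinset _ (by decide +kernel)]
  refine (Finset.sum_le_sum fun p hp => ?_).trans (Finset.sum_le_sum_of_subset fun p hp => ?_)
  · obtain ⟨h1, h2⟩ := mem_PR.1 hp
    have := h p h2
    have := hc.rS_le h2
    have := vf_ge h2 (le_refl (n / p))
    rw [if_pos h1]
    omega
  · exact List.mem_toFinset.2 (mem_ps (mem_PR.1 hp).2 ((mem_PR.1 hp).1.trans hn))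

instance (n d : ℕ) : Decidable (DB n d) := by unfold DB; infer_instance

/-- the largest prime up to `n - 3` -/
def p0 (n : ℕ) : ℕ := ps.foldl (fun a p => if p + 3 ≤ n then p else a) 2

/-- the least admissible degree -/
def DD (n : ℕ) : ℕ := (List.range 12).foldl (fun d _ => if DB n d then d else d + 1) 3

/-- the bound in case U -/
def cU (n t D p : ℕ) : ℕ :=
  cdiv (t - 1 - n % p) p + (n - (n % p + cdiv (t - 1 - n % p) p * p)) / muU (n + 1 - t) p D

/-- the bound in case I -/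
def cI (n t k p : ℕ) : ℕ :=
  cdiv (pm (n + 2 - t) k p + 1 + (t - 2) - n % p) p + outs (n + 2 - t) k p (pm (n + 2 - t) k p + 1)

/-- the check in case U -/
def okU (n t a D : ℕ) : Prop :=
  (D ≤ 3 ∨ ¬ DB (n + 1 - t) (D - 1)) ∧ 1 ≤ D ∧ (sm n fun p => min (cU n t D p) (rS n t p)) + 2 ≤ a

/-- the check in case I -/
def okI (n t a k : ℕ) : Prop :=
  2 ≤ k → k ∣ n + 2 - t - 1 → 2 * k + 1 ≤ n + 2 - t → (sm n fun p => min (cI n t k p) (rS n t p)) + 2 ≤ a

instance (n t a D : ℕ) : Decidable (okU n t a D) := by unfold okU; infer_instance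
instance (n t a k : ℕ) : Decidable (okI n t a k) := by unfold okI; infer_instance

/-- the check in degree `n` -/
def ok (n : ℕ) : Prop :=
  p0 n ∈ ps ∧ p0 n + 3 ≤ n ∧ ∀ t ≤ n - p0 n, 1 ≤ t → okU n t (aa n) (DD (n + 1 - t)) ∧
    (2 ≤ t → ∀ k < n, okI n t (aa n) k)

instance (n : ℕ) : Decidable (ok n) := by unfold ok; infer_instance

theorem chk0 : ∀ i < 52, ok (8 + i) := by decide +kernel
theorem chk1 : ∀ i < 30, ok (60 + i) := by decide +kernel
theorem chk2 : ∀ i < 20, ok (90 + i) := by decide +kernel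
theorem chk3 : ∀ i < 15, ok (110 + i) := by decide +kernel
theorem chk4 : ∀ i < 15, ok (125 + i) := by decide +kernel
theorem chk5 : ∀ i < 12, ok (140 + i) := by decide +kernel

theorem chk {n : ℕ} (h8 : 8 ≤ n) (hn : n ≤ 151) : ok n := by
  by_cases h : n < 60
  · exact Nat.add_sub_cancel' (show 8 ≤ n by omega) ▸ chk0 _ (by omega)
  by_cases h : n < 90
  · exact Nat.add_sub_cancel' (show 60 ≤ n by omega) ▸ chk1 _ (by omega)
  by_cases h : n < 110
  · exact Nat.add_sub_cancel' (show 90 ≤ n by omega) ▸ chk2 _ (by omega)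
  by_cases h : n < 125
  · exact Nat.add_sub_cancel' (show 110 ≤ n by omega) ▸ chk3 _ (by omega)
  by_cases h : n < 140
  · exact Nat.add_sub_cancel' (show 125 ≤ n by omega) ▸ chk4 _ (by omega)
  exact Nat.add_sub_cancel' (show 140 ≤ n by omega) ▸ chk5 _ (by omega)

end Num1

open Num1 in
theorem num1 {n t N : ℕ} (h8 : 8 ≤ n) (hn : n ≤ 151) (hc : Com n t N)
    (h : (∃ d, CaseU n t N d) ∨ ∃ k, CaseI n t N k) : Om N + 2 ≤ aa n := by
  obtain ⟨h1, h2, h3⟩ := chk h8 hn
  have := hc.jor _ (ps_prime _ h1) h2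
  obtain ⟨⟨u1, u2, u3⟩, h4⟩ := h3 t (by omega) hc.t1
  rcases h with ⟨d, h⟩ | ⟨k, h⟩
  · refine le_trans (Nat.add_le_add_right (om_le hn hc fun p hp => ?_) 2) u3
    exact (h.exact (D_le h.d3 h.db le_rfl u1) u2 hp).trans_eq (add_assoc _ _ _)
  · have := h.half
    have := h.t2
    have := h.two
    refine le_trans (Nat.add_le_add_right (om_le hn hc fun p hp => ?_) 2)
      (h4 h.t2 k (by omega) h.two h.dvd h.half)
    exact (h.pp p hp).trans_eq (add_assoc _ _ _)

end CfsgLib.Psx
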