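import Cfsg.Agent.Lib.Psx.NLib2
import Cfsg.Agent.Lib.Psx.Bin

set_option autoImplicit false
set_option Elab.async false

namespace CfsgLib.Psx

namespace Num2

/-- the primes up to `8192` -/
def PL : List ℕ :=
  [2, 3, 5, 7, 11, 13, 17, 19, 23, 29, 31, 37, 41, 43, 47, 53, 59, 61, 67, 71, 73, 79, 83, 89, 97, 101, 103,
   107, 109, 113, 127, 131, 137, 139, 149, 151, 157, 163, 167, 173, 179, 181, 191, 193, 197, 199, 211, 223,
   227, 229, 233, 239, 241, 251, 257, 263, 269, 271, 277, 281, 283, 293, 307, 311, 313, 317, 331, 337, 347,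
   349, 353, 359, 367, 373, 379, 383, 389, 397, 401, 409, 419, 421, 431, 433, 439, 443, 449, 457, 461, 463,
   467, 479, 487, 491, 499, 503, 509, 521, 523, 541, 547, 557, 563, 569, 571, 577, 587, 593, 599, 601, 607,
   613, 617, 619, 631, 641, 643, 647, 653, 659, 661, 673, 677, 683, 691, 701, 709, 719, 727, 733, 739, 743,
   751, 757, 761, 769, 773, 787, 797, 809, 811, 821, 823, 827, 829, 839, 853, 857, 859, 863, 877, 881, 883,
   887, 907, 911, 919, 929, 937, 941, 947, 953, 967, 971, 977, 983, 991, 997, 1009, 1013, 1019, 1021, 1031,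
   1033, 1039, 1049, 1051, 1061, 1063, 1069, 1087, 1091, 1093, 1097, 1103, 1109, 1117, 1123, 1129, 1151,
   1153, 1163, 1171, 1181, 1187, 1193, 1201, 1213, 1217, 1223, 1229, 1231, 1237, 1249, 1259, 1277, 1279,
   1283, 1289, 1291, 1297, 1301, 1303, 1307, 1319, 1321, 1327, 1361, 1367, 1373, 1381, 1399, 1409, 1423,
   1427, 1429, 1433, 1439, 1447, 1451, 1453, 1459, 1471, 1481, 1483, 1487, 1489, 1493, 1499, 1511, 1523,
   1531, 1543, 1549, 1553, 1559, 1567, 1571, 1579, 1583, 1597, 1601, 1607, 1609, 1613, 1619, 1621, 1627,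
   1637, 1657, 1663, 1667, 1669, 1693, 1697, 1699, 1709, 1721, 1723, 1733, 1741, 1747, 1753, 1759, 1777,
   1783, 1787, 1789, 1801, 1811, 1823, 1831, 1847, 1861, 1867, 1871, 1873, 1877, 1879, 1889, 1901, 1907,
   1913, 1931, 1933, 1949, 1951, 1973, 1979, 1987, 1993, 1997, 1999, 2003, 2011, 2017, 2027, 2029, 2039,
   2053, 2063, 2069, 2081, 2083, 2087, 2089, 2099, 2111, 2113, 2129, 2131, 2137, 2141, 2143, 2153, 2161,
   2179, 2203, 2207, 2213, 2221, 2237, 2239, 2243, 2251, 2267, 2269, 2273, 2281, 2287, 2293, 2297, 2309,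
   2311, 2333, 2339, 2341, 2347, 2351, 2357, 2371, 2377, 2381, 2383, 2389, 2393, 2399, 2411, 2417, 2423,
   2437, 2441, 2447, 2459, 2467, 2473, 2477, 2503, 2521, 2531, 2539, 2543, 2549, 2551, 2557, 2579, 2591,
   2593, 2609, 2617, 2621, 2633, 2647, 2657, 2659, 2663, 2671, 2677, 2683, 2687, 2689, 2693, 2699, 2707,
   2711, 2713, 2719, 2729, 2731, 2741, 2749, 2753, 2767, 2777, 2789, 2791, 2797, 2801, 2803, 2819, 2833,
   2837, 2843, 2851, 2857, 2861, 2879, 2887, 2897, 2903, 2909, 2917, 2927, 2939, 2953, 2957, 2963, 2969,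
   2971, 2999, 3001, 3011, 3019, 3023, 3037, 3041, 3049, 3061, 3067, 3079, 3083, 3089, 3109, 3119, 3121,
   3137, 3163, 3167, 3169, 3181, 3187, 3191, 3203, 3209, 3217, 3221, 3229, 3251, 3253, 3257, 3259, 3271,
   3299, 3301, 3307, 3313, 3319, 3323, 3329, 3331, 3343, 3347, 3359, 3361, 3371, 3373, 3389, 3391, 3407,
   3413, 3433, 3449, 3457, 3461, 3463, 3467, 3469, 3491, 3499, 3511, 3517, 3527, 3529, 3533, 3539, 3541,
   3547, 3557, 3559, 3571, 3581, 3583, 3593, 3607, 3613, 3617, 3623, 3631, 3637, 3643, 3659, 3671, 3673,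
   3677, 3691, 3697, 3701, 3709, 3719, 3727, 3733, 3739, 3761, 3767, 3769, 3779, 3793, 3797, 3803, 3821,
   3823, 3833, 3847, 3851, 3853, 3863, 3877, 3881, 3889, 3907, 3911, 3917, 3919, 3923, 3929, 3931, 3943,
   3947, 3967, 3989, 4001, 4003, 4007, 4013, 4019, 4021, 4027, 4049, 4051, 4057, 4073, 4079, 4091, 4093,
   4099, 4111, 4127, 4129, 4133, 4139, 4153, 4157, 4159, 4177, 4201, 4211, 4217, 4219, 4229, 4231, 4241,
   4243, 4253, 4259, 4261, 4271, 4273, 4283, 4289, 4297, 4327, 4337, 4339, 4349, 4357, 4363, 4373, 4391,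
   4397, 4409, 4421, 4423, 4441, 4447, 4451, 4457, 4463, 4481, 4483, 4493, 4507, 4513, 4517, 4519, 4523,
   4547, 4549, 4561, 4567, 4583, 4591, 4597, 4603, 4621, 4637, 4639, 4643, 4649, 4651, 4657, 4663, 4673,
   4679, 4691, 4703, 4721, 4723, 4729, 4733, 4751, 4759, 4783, 4787, 4789, 4793, 4799, 4801, 4813, 4817,
   4831, 4861, 4871, 4877, 4889, 4903, 4909, 4919, 4931, 4933, 4937, 4943, 4951, 4957, 4967, 4969, 4973,
   4987, 4993, 4999, 5003, 5009, 5011, 5021, 5023, 5039, 5051, 5059, 5077, 5081, 5087, 5099, 5101, 5107,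
   5113, 5119, 5147, 5153, 5167, 5171, 5179, 5189, 5197, 5209, 5227, 5231, 5233, 5237, 5261, 5273, 5279,
   5281, 5297, 5303, 5309, 5323, 5333, 5347, 5351, 5381, 5387, 5393, 5399, 5407, 5413, 5417, 5419, 5431,
   5437, 5441, 5443, 5449, 5471, 5477, 5479, 5483, 5501, 5503, 5507, 5519, 5521, 5527, 5531, 5557, 5563,
   5569, 5573, 5581, 5591, 5623, 5639, 5641, 5647, 5651, 5653, 5657, 5659, 5669, 5683, 5689, 5693, 5701,
   5711, 5717, 5737, 5741, 5743, 5749, 5779, 5783, 5791, 5801, 5807, 5813, 5821, 5827, 5839, 5843, 5849,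
   5851, 5857, 5861, 5867, 5869, 5879, 5881, 5897, 5903, 5923, 5927, 5939, 5953, 5981, 5987, 6007, 6011,
   6029, 6037, 6043, 6047, 6053, 6067, 6073, 6079, 6089, 6091, 6101, 6113, 6121, 6131, 6133, 6143, 6151,
   6163, 6173, 6197, 6199, 6203, 6211, 6217, 6221, 6229, 6247, 6257, 6263, 6269, 6271, 6277, 6287, 6299,
   6301, 6311, 6317, 6323, 6329, 6337, 6343, 6353, 6359, 6361, 6367, 6373, 6379, 6389, 6397, 6421, 6427,
   6449, 6451, 6469, 6473, 6481, 6491, 6521, 6529, 6547, 6551, 6553, 6563, 6569, 6571, 6577, 6581, 6599,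
   6607, 6619, 6637, 6653, 6659, 6661, 6673, 6679, 6689, 6691, 6701, 6703, 6709, 6719, 6733, 6737, 6761,
   6763, 6779, 6781, 6791, 6793, 6803, 6823, 6827, 6829, 6833, 6841, 6857, 6863, 6869, 6871, 6883, 6899,
   6907, 6911, 6917, 6947, 6949, 6959, 6961, 6967, 6971, 6977, 6983, 6991, 6997, 7001, 7013, 7019, 7027,
   7039, 7043, 7057, 7069, 7079, 7103, 7109, 7121, 7127, 7129, 7151, 7159, 7177, 7187, 7193, 7207, 7211,
   7213, 7219, 7229, 7237, 7243, 7247, 7253, 7283, 7297, 7307, 7309, 7321, 7331, 7333, 7349, 7351, 7369,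
   7393, 7411, 7417, 7433, 7451, 7457, 7459, 7477, 7481, 7487, 7489, 7499, 7507, 7517, 7523, 7529, 7537,
   7541, 7547, 7549, 7559, 7561, 7573, 7577, 7583, 7589, 7591, 7603, 7607, 7621, 7639, 7643, 7649, 7669,
   7673, 7681, 7687, 7691, 7699, 7703, 7717, 7723, 7727, 7741, 7753, 7757, 7759, 7789, 7793, 7817, 7823,
   7829, 7841, 7853, 7867, 7873, 7877, 7879, 7883, 7901, 7907, 7919, 7927, 7933, 7937, 7949, 7951, 7963,
   7993, 8009, 8011, 8017, 8039, 8053, 8059, 8069, 8081, 8087, 8089, 8093, 8101, 8111, 8117, 8123, 8147,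
   8161, 8167, 8171, 8179, 8191]

def isP (m : ℕ) : Bool := Nat.ble 2 m && (List.range 91).all fun q => Nat.ble q 1 || q == m || m % q != 0

theorem PL_eq : (List.range 8193).filter isP = PL := by decide +kernel

theorem mem_PL {p : ℕ} (hp : p.Prime) (h : p ≤ 8192) : p ∈ PL := by
  rw [← PL_eq, List.mem_filter, List.mem_range]
  refine ⟨by omega, ?_⟩
  simp only [isP, Bool.and_eq_true, Nat.ble_eq, List.all_eq_true, Bool.or_eq_true, beq_iff_eq, bne_iff_ne]
  refine ⟨hp.two_le, fun q _ => ?_⟩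
  by_cases e : p % q = 0
  · rcases (Nat.dvd_prime hp).1 (Nat.dvd_of_mod_eq_zero e) with k | k
    · exact .inl (.inl k.le)
    · exact .inl (.inr k)
  · exact .inr e

theorem PL_nodup : PL.Nodup := PL_eq ▸ List.nodup_range.filter _

def tm (hi : ℕ) (c : ℕ → ℕ) (p : ℕ) : ℕ :=
  if 2 * p ≤ hi then vf p (hi / p) + min (c p) (hi / p - 1) else 0

def SS (hi : ℕ) (c : ℕ → ℕ) : ℕ := (PL.map (tm hi c)).sum

theorem om_le {n t N hi : ℕ} (hc : Com n t N) (h8 : 8 ≤ n) (hn : n ≤ hi) (hh : hi ≤ 16385) (c : ℕ → ℕ)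
    (h : ∀ p, p.Prime → padicValNat p N ≤ padicValNat p (n / p).factorial + c p) : Om N ≤ 2 + SS hi c := by
  refine (hc.om_split h8).trans (Nat.add_le_add_left ?_ 2)
  rw [SS, ← List.sum_toFinset _ PL_nodup]
  refine le_trans (Finset.sum_le_sum (g := tm hi c) fun p hp => ?_) (Finset.sum_le_sum_of_subset fun p hp => ?_)
  · obtain ⟨h1, hp⟩ := mem_PR.1 hp
    have h2 := h p hp
    have h3 := hc.half h8 hp (by omega)
    have h4 : n / p ≤ hi / p := Nat.div_le_div_right hn
    have h5 := vf_ge hp h4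
    rw [tm, if_pos (by omega)]
    omega
  · obtain ⟨h1, hp⟩ := mem_PR.1 hp
    exact List.mem_toFinset.2 (mem_PL hp (by omega))

def cU (hi T D p : ℕ) : ℕ := cdiv (T - 1) p + max 1 (hi / MU p D)

def c1 (hi T K p : ℕ) : ℕ := (min K (hi / (2 * (p - 1))) + T) / p + 2 + Nat.log2 (hi / (2 * (p - 1)))

def c2 (hi T K p : ℕ) : ℕ := (T + min (hi / 3) (hi / (2 * (p - 1)))) / p + 1 +
  (if p * K ≤ hi then 1 + Nat.log2 (hi / ((p - 1) * K)) else 0)

def OK (lo hi p0 r D T L : ℕ) : Prop :=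
  25 ≤ lo ∧ hi ≤ 16385 ∧ p0 + 3 ≤ lo ∧ hi < (r + 1) * (r + 1) ∧ 1 ≤ r ∧ 1 ≤ D ∧ min (hi - p0) (3 * r) ≤ T ∧
    Nat.log2 hi = L ∧ 3 * (D - 1) * (D - 1 - 1) < 2 * (lo + 1 - T - 1) ∧ (D - 1) * (D - 1) + (D - 1) + 1 < lo + 1 - T ∧
    (T + 2 * L + 2) * (L + 2) + L + 4 ≤ (3 * lo + 1) / 2 ∧ SS hi (cU hi T D) + L + 6 ≤ (3 * lo + 1) / 2 ∧
    SS hi (c1 hi T r) + L + 6 ≤ (3 * lo + 1) / 2 ∧ SS hi (c2 hi T r) + L + 6 ≤ (3 * lo + 1) / 2

instance (lo hi p0 r D T L : ℕ) : Decidable (OK lo hi p0 r D T L) := by unfold OK; infer_instance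

theorem chunk {lo hi p0 r D T L : ℕ} (hp : p0.Prime) (ok : OK lo hi p0 r D T L) {n t N : ℕ} (h1 : lo ≤ n)
    (h2 : n ≤ hi) (hc : Com n t N) (h : (∃ d, CaseU n t N d) ∨ ∃ k, CaseI n t N k) : Om N + 2 ≤ aa n := by
  obtain ⟨o1, o2, o3, o4, o5, o6, o7, o8, o9, o10, o11, o12, o13, o14⟩ := ok
  rw [Nat.log2_eq_log_two] at o8
  have t1 := hc.jor p0 hp (by omega)
  have t2 := hc.t_le (by omega)
  have t3 : Nat.sqrt n < r + 1 := Nat.sqrt_lt.2 (by omega)
  have hT : t ≤ T := by omega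
  have a1 := aa_eq (n := n) (by omega)
  have a2 := bb_le_log n
  have a3 : Nat.log 2 n ≤ Nat.log 2 hi := Nat.log_mono_right h2
  have h8 : 8 ≤ n := by omega
  obtain ⟨d, h⟩ | ⟨k, h⟩ := h
  · have hD : D ≤ d := D_le (n0 := lo + 1 - T) h.d3 h.db (by omega) (.inr (by unfold DB; omega))
    have := om_le hc h8 h2 o2 (cU hi T D) fun p hp => (h.bound hc.t1 hD o6 hp hT h2).trans_eq (add_assoc _ _ _)
    omega
  by_cases e : n + 2 - t = 2 * k + 1
  · have := (om_le_log hc.pos).trans (Nat.log_mono_right (h.m2 e hT h2))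
    rw [Nat.log_pow one_lt_two, o8] at this
    omega
  rcases le_total k r with hk | hk
  · have := om_le hc h8 h2 o2 (c1 hi T r) fun p hp => (h.bound1 (h.three e) hp hT h2 hk).trans_eq (by
      rw [c1, Nat.log2_eq_log_two]; omega)
    omega
  · have := om_le hc h8 h2 o2 (c2 hi T r) fun p hp => (h.bound2 (h.three e) hp hT h2 o5 hk).trans_eq (by
      rw [c2, Nat.log2_eq_log_two]; omega)
    omega

theorem ok0 : OK 152 157 149 12 11 8 7 := by decide +kernel
theorem ok1 : OK 158 160 151 12 11 9 7 := by decide +kernel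
theorem ok2 : OK 161 166 157 12 11 9 7 := by decide +kernel
theorem ok3 : OK 167 173 163 13 11 10 7 := by decide +kernel
theorem ok4 : OK 174 178 167 13 11 11 7 := by decide +kernel
theorem ok5 : OK 179 185 173 13 12 12 7 := by decide +kernel
theorem ok6 : OK 186 194 181 13 12 13 7 := by decide +kernel
theorem ok7 : OK 195 206 191 14 12 15 7 := by decide +kernel
theorem ok8 : OK 207 216 199 14 12 17 7 := by decide +kernel
theorem ok9 : OK 217 230 211 15 12 19 7 := by decide +kernel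
theorem ok10 : OK 231 248 227 15 13 21 7 := by decide +kernel
theorem ok11 : OK 249 259 241 16 13 18 8 := by decide +kernel
theorem ok12 : OK 260 276 257 16 14 19 8 := by decide +kernel
theorem ok13 : OK 277 293 271 17 14 22 8 := by decide +kernel
theorem ok14 : OK 294 307 283 17 14 24 8 := by decide +kernel
theorem ok15 : OK 308 320 293 17 15 27 8 := by decide +kernel
theorem ok16 : OK 321 346 317 18 15 29 8 := by decide +kernel
theorem ok17 : OK 347 369 337 19 15 32 8 := by decide +kernel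
theorem ok18 : OK 370 403 367 20 16 36 8 := by decide +kernel
theorem ok19 : OK 404 442 401 21 17 41 8 := by decide +kernel
theorem ok20 : OK 443 486 439 22 17 47 8 := by decide +kernel
theorem ok21 : OK 487 524 479 22 18 45 9 := by decide +kernel
theorem ok22 : OK 525 571 521 23 19 50 9 := by decide +kernel
theorem ok23 : OK 572 625 569 25 20 56 9 := by decide +kernel
theorem ok24 : OK 626 683 619 26 20 64 9 := by decide +kernel
theorem ok25 : OK 684 749 677 27 21 72 9 := by decide +kernel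
theorem ok26 : OK 750 824 743 28 22 81 9 := by decide +kernel
theorem ok27 : OK 825 917 821 30 23 90 9 := by decide +kernel
theorem ok28 : OK 918 1023 911 31 24 93 9 := by decide +kernel
theorem ok29 : OK 1024 1153 1021 33 26 99 10 := by decide +kernel
theorem ok30 : OK 1154 1307 1151 36 27 108 10 := by decide +kernel
theorem ok31 : OK 1308 1499 1303 38 29 114 10 := by decide +kernel
theorem ok32 : OK 1500 1730 1493 41 31 123 10 := by decide +kernel
theorem ok33 : OK 1731 2024 1723 44 34 132 10 := by decide +kernel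
theorem ok34 : OK 2025 2383 2017 48 36 144 11 := by decide +kernel
theorem ok35 : OK 2384 2828 2381 53 40 159 11 := by decide +kernel
theorem ok36 : OK 2829 3385 2819 58 43 174 11 := by decide +kernel
theorem ok37 : OK 3386 4091 3373 63 47 189 11 := by decide +kernel
theorem ok38 : OK 4092 4975 4079 70 52 210 12 := by decide +kernel
theorem ok39 : OK 4976 6099 4973 78 57 234 12 := by decide +kernel
theorem ok40 : OK 6100 7532 6091 86 63 258 12 := by decide +kernel
theorem ok41 : OK 7533 9368 7529 96 70 288 13 := by decide +kernel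
theorem ok42 : OK 9369 11733 9349 108 79 324 13 := by decide +kernel
theorem ok43 : OK 11734 14786 11731 121 88 363 13 := by decide +kernel
theorem ok44 : OK 14787 16384 14783 128 99 384 14 := by decide +kernel

end Num2

theorem num2 {n t N : ℕ} (h8 : 152 ≤ n) (hn : n ≤ 16384) (hc : Com n t N)
    (h : (∃ d, CaseU n t N d) ∨ ∃ k, CaseI n t N k) : Om N + 2 ≤ aa n := by
  rcases Nat.lt_or_ge 157 n with k0 | k
  swap
  · exact Num2.chunk (by norm_num) Num2.ok0 h8 k hc h
  rcases Nat.lt_or_ge 160 n with k1 | k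
  swap
  · exact Num2.chunk (by norm_num) Num2.ok1 k0 k hc h
  rcases Nat.lt_or_ge 166 n with k2 | k
  swap
  · exact Num2.chunk (by norm_num) Num2.ok2 k1 k hc h
  rcases Nat.lt_or_ge 173 n with k3 | k
  swap
  · exact Num2.chunk (by norm_num) Num2.ok3 k2 k hc h
  rcases Nat.lt_or_ge 178 n with k4 | k
  swap
  · exact Num2.chunk (by norm_num) Num2.ok4 k3 k hc h
  rcases Nat.lt_or_ge 185 n with k5 | k
  swap
  · exact Num2.chunk (by norm_num) Num2.ok5 k4 k hc h
  rcases Nat.lt_or_ge 194 n with k6 | k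
  swap
  · exact Num2.chunk (by norm_num) Num2.ok6 k5 k hc h
  rcases Nat.lt_or_ge 206 n with k7 | k
  swap
  · exact Num2.chunk (by norm_num) Num2.ok7 k6 k hc h
  rcases Nat.lt_or_ge 216 n with k8 | k
  swap
  · exact Num2.chunk (by norm_num) Num2.ok8 k7 k hc h
  rcases Nat.lt_or_ge 230 n with k9 | k
  swap
  · exact Num2.chunk (by norm_num) Num2.ok9 k8 k hc h
  rcases Nat.lt_or_ge 248 n with k10 | k
  swap
  · exact Num2.chunk (by norm_num) Num2.ok10 k9 k hc h
  rcases Nat.lt_or_ge 259 n with k11 | k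
  swap
  · exact Num2.chunk (by norm_num) Num2.ok11 k10 k hc h
  rcases Nat.lt_or_ge 276 n with k12 | k
  swap
  · exact Num2.chunk (by norm_num) Num2.ok12 k11 k hc h
  rcases Nat.lt_or_ge 293 n with k13 | k
  swap
  · exact Num2.chunk (by norm_num) Num2.ok13 k12 k hc h
  rcases Nat.lt_or_ge 307 n with k14 | k
  swap
  · exact Num2.chunk (by norm_num) Num2.ok14 k13 k hc h
  rcases Nat.lt_or_ge 320 n with k15 | k
  swap
  · exact Num2.chunk (by norm_num) Num2.ok15 k14 k hc h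
  rcases Nat.lt_or_ge 346 n with k16 | k
  swap
  · exact Num2.chunk (by norm_num) Num2.ok16 k15 k hc h
  rcases Nat.lt_or_ge 369 n with k17 | k
  swap
  · exact Num2.chunk (by norm_num) Num2.ok17 k16 k hc h
  rcases Nat.lt_or_ge 403 n with k18 | k
  swap
  · exact Num2.chunk (by norm_num) Num2.ok18 k17 k hc h
  rcases Nat.lt_or_ge 442 n with k19 | k
  swap
  · exact Num2.chunk (by norm_num) Num2.ok19 k18 k hc h
  rcases Nat.lt_or_ge 486 n with k20 | k
  swap
  · exact Num2.chunk (by norm_num) Num2.ok20 k19 k hc h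
  rcases Nat.lt_or_ge 524 n with k21 | k
  swap
  · exact Num2.chunk (by norm_num) Num2.ok21 k20 k hc h
  rcases Nat.lt_or_ge 571 n with k22 | k
  swap
  · exact Num2.chunk (by norm_num) Num2.ok22 k21 k hc h
  rcases Nat.lt_or_ge 625 n with k23 | k
  swap
  · exact Num2.chunk (by norm_num) Num2.ok23 k22 k hc h
  rcases Nat.lt_or_ge 683 n with k24 | k
  swap
  · exact Num2.chunk (by norm_num) Num2.ok24 k23 k hc h
  rcases Nat.lt_or_ge 749 n with k25 | k
  swap
  · exact Num2.chunk (by norm_num) Num2.ok25 k24 k hc h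
  rcases Nat.lt_or_ge 824 n with k26 | k
  swap
  · exact Num2.chunk (by norm_num) Num2.ok26 k25 k hc h
  rcases Nat.lt_or_ge 917 n with k27 | k
  swap
  · exact Num2.chunk (by norm_num) Num2.ok27 k26 k hc h
  rcases Nat.lt_or_ge 1023 n with k28 | k
  swap
  · exact Num2.chunk (by norm_num) Num2.ok28 k27 k hc h
  rcases Nat.lt_or_ge 1153 n with k29 | k
  swap
  · exact Num2.chunk (by norm_num) Num2.ok29 k28 k hc h
  rcases Nat.lt_or_ge 1307 n with k30 | k
  swap
  · exact Num2.chunk (by norm_num) Num2.ok30 k29 k hc h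
  rcases Nat.lt_or_ge 1499 n with k31 | k
  swap
  · exact Num2.chunk (by norm_num) Num2.ok31 k30 k hc h
  rcases Nat.lt_or_ge 1730 n with k32 | k
  swap
  · exact Num2.chunk (by norm_num) Num2.ok32 k31 k hc h
  rcases Nat.lt_or_ge 2024 n with k33 | k
  swap
  · exact Num2.chunk (by norm_num) Num2.ok33 k32 k hc h
  rcases Nat.lt_or_ge 2383 n with k34 | k
  swap
  · exact Num2.chunk (by norm_num) Num2.ok34 k33 k hc h
  rcases Nat.lt_or_ge 2828 n with k35 | k
  swap
  · exact Num2.chunk (by norm_num) Num2.ok35 k34 k hc h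
  rcases Nat.lt_or_ge 3385 n with k36 | k
  swap
  · exact Num2.chunk (by norm_num) Num2.ok36 k35 k hc h
  rcases Nat.lt_or_ge 4091 n with k37 | k
  swap
  · exact Num2.chunk (by norm_num) Num2.ok37 k36 k hc h
  rcases Nat.lt_or_ge 4975 n with k38 | k
  swap
  · exact Num2.chunk (by norm_num) Num2.ok38 k37 k hc h
  rcases Nat.lt_or_ge 6099 n with k39 | k
  swap
  · exact Num2.chunk (by norm_num) Num2.ok39 k38 k hc h
  rcases Nat.lt_or_ge 7532 n with k40 | k
  swap
  · exact Num2.chunk (by norm_num) Num2.ok40 k39 k hc h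
  rcases Nat.lt_or_ge 9368 n with k41 | k
  swap
  · exact Num2.chunk (by norm_num) Num2.ok41 k40 k hc h
  rcases Nat.lt_or_ge 11733 n with k42 | k
  swap
  · exact Num2.chunk (by norm_num) Num2.ok42 k41 k hc h
  rcases Nat.lt_or_ge 14786 n with k43 | k
  swap
  · exact Num2.chunk (by norm_num) Num2.ok43 k42 k hc h
  exact Num2.chunk (by norm_num) Num2.ok44 k43 hn hc h

end CfsgLib.Psx
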