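import Cfsg.Agent.Lib.Psx.QLib
import Cfsg.Agent.Lib.Psx.Num1

set_option autoImplicit false

namespace CfsgLib.Psx

namespace Q1

open Num1 (DD cI)

/-- the primes up to 160 -/
def ps : List ℕ := [2, 3, 5, 7, 11, 13, 17, 19, 23, 29, 31, 37, 41, 43, 47, 53, 59, 61, 67, 71, 73, 79, 83, 89, 97, 101, 103, 107, 109, 113, 127, 131, 137, 139, 149, 151, 157]

theorem ps_prime : ∀ p ∈ ps, p.Prime := by
  simp only [ps, List.forall_mem_cons]
  norm_num

theorem mem_ps {p : ℕ} (hp : p.Prime) (h : p ≤ 160) : p ∈ ps := by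
  have k : ∀ p < 161, p ∈ ps ∨ p < 2 ∨ ∃ d ∈ [2, 3, 5, 7, 11], 1 < d ∧ d < p ∧ d ∣ p := by
    decide +kernel
  rcases k p (by omega) with h | h | ⟨d, -, h1, h2, h3⟩
  · exact h
  · exact absurd hp.two_le (by omega)
  · rcases (Nat.dvd_prime hp).1 h3 with h | h <;> omega

/-- the product over the primes up to `X` -/
def pr (n X : ℕ) (g : ℕ → ℕ) : ℕ :=
  (ps.map fun p => if p ≤ X then p ^ (vf p (n / p) + g p) else 1).prod

theorem prod_le {n t N X : ℕ} (hX : X ≤ 160) (hc : Com n t N) {c : ℕ → ℕ}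
    (h : ∀ p, p.Prime → padicValNat p N ≤ padicValNat p (n / p).factorial + c p) :
    ∏ p ∈ PR X, p ^ padicValNat p N ≤ pr n X fun p => min (c p) (rS n t p) := by
  rw [pr, ← List.prod_toFinset _ (by decide +kernel)]
  refine (Finset.prod_le_prod' (g := fun p => if p ≤ X then p ^ (vf p (n / p) + min (c p) (rS n t p))
    else 1) fun p hp => ?_).trans (Finset.prod_le_prod_of_subset_of_one_le' (fun p hp => ?_) ?_)
  · obtain ⟨h1, h2⟩ := mem_PR.1 hp
    have := h p h2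
    have := hc.rS_le h2
    have := vf_ge h2 (le_refl (n / p))
    rw [if_pos h1]
    exact Nat.pow_le_pow_right h2.pos (by omega)
  · exact List.mem_toFinset.2 (mem_ps (mem_PR.1 hp).2 ((mem_PR.1 hp).1.trans hX))
  · intro p hp _
    split_ifs
    · exact Nat.one_le_pow _ _ (ps_prime p (List.mem_toFinset.1 hp)).pos
    · exact le_rfl

/-- the least feasible `q * p` -/
def muA (n1 p D : ℕ) : ℕ → ℕ → ℕ
  | 0, _ => 1
  | f + 1, q => if n1 < q * p then n1 + 1 else if Feas n1 p D q then q * p else muA n1 p D f (q + 1)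

theorem muA_pos {n1 p D : ℕ} (hp : 1 ≤ p) : ∀ f q, 1 ≤ q → 1 ≤ muA n1 p D f q
  | 0, _, _ => le_rfl
  | f + 1, q, hq => by
    rw [muA]
    split_ifs
    · omega
    · exact Nat.mul_pos hq hp
    · exact muA_pos hp f _ (by omega)

theorem muA_le {n1 p D q' : ℕ} (hp : 1 ≤ p) (h1 : 1 ≤ q') (h2 : q' * p ≤ n1) (h3 : Feas n1 p D q') :
    ∀ f q, q ≤ q' → muA n1 p D f q ≤ q' * p
  | 0, _, _ => Nat.mul_pos h1 hp
  | f + 1, q, hq => by
    have := Nat.mul_le_mul_right p hq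
    rw [muA]
    split_ifs with c1 c2
    · omega
    · exact this
    · refine muA_le hp h1 h2 h3 f _ (Nat.succ_le_of_lt (lt_of_le_of_ne hq ?_))
      rintro rfl
      exact c2 h3

/-- the bound in case U -/
def cUx (n t D p : ℕ) : ℕ :=
  cdiv (t - 1 - n % p) p + (n - (n % p + cdiv (t - 1 - n % p) p * p)) / muA (n + 1 - t) p D 90 1

/-- the check in case U -/
def okU (n t D : ℕ) : Prop :=
  (D ≤ 3 ∨ ¬ DB (n + 1 - t) (D - 1)) ∧ (pr n n fun p => min (cUx n t D p) (rS n t p)) ≤ 4 ^ n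

/-- the check in case I -/
def okI (n t k : ℕ) : Prop :=
  2 ≤ k → k ∣ n + 2 - t - 1 → 2 * k + 1 ≤ n + 2 - t →
    (pr n n fun p => min (cI n t k p) (rS n t p)) ≤ 4 ^ n ∨
      n ^ (t - 2 + Nat.log 2 n + 1) * (pr n (k - 1) fun p => min (cI n t k p) (rS n t p)) ≤ 4 ^ n

instance (n t D : ℕ) : Decidable (okU n t D) := by unfold okU; infer_instance
instance (n t k : ℕ) : Decidable (okI n t k) := by unfold okI; infer_instance

/-- the certificates `(p, q)` bounding the transitivity -/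
def cert : List (ℕ × ℕ) := [(5, 1), (7, 1), (7, 1), (7, 1), (7, 1), (11, 1), (11, 1), (13, 1), (13, 1), (13, 1), (7, 2), (17, 1), (17, 1), (19, 1), (19, 1), (19, 1), (5, 4), (23, 1), (23, 1), (23, 1), (23, 1), (23, 1), (13, 2), (29, 1), (29, 1), (31, 1), (31, 1), (31, 1), (31, 1), (11, 3), (17, 2), (37, 1), (37, 1), (37, 1), (19, 2), (41, 1), (41, 1), (43, 1), (43, 1), (43, 1), (11, 4), (47, 1), (47, 1), (47, 1), (47, 1), (47, 1), (47, 1), (53, 1), (53, 1), (53, 1), (53, 1), (53, 1), (11, 5), (59, 1), (59, 1), (61, 1), (61, 1), (61, 1), (31, 2), (31, 2), (31, 2), (67, 1), (67, 1), (67, 1), (17, 4), (71, 1), (71, 1), (73, 1), (73, 1), (73, 1), (37, 2), (37, 2), (19, 4), (79, 1), (79, 1), (79, 1), (79, 1), (83, 1), (83, 1), (83, 1), (83, 1), (83, 1), (43, 2), (89, 1), (89, 1), (89, 1), (89, 1), (89, 1), (23, 4), (31, 3), (47, 2), (97, 1), (97, 1), (97, 1), (97, 1), (101, 1), (101, 1), (103, 1), (103, 1), (103, 1), (103, 1),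 (107, 1), (107, 1), (109, 1), (109, 1), (109, 1), (109, 1), (113, 1), (113, 1), (113, 1), (113, 1), (113, 1), (29, 4), (29, 4), (59, 2), (59, 2), (59, 2), (59, 2), (61, 2), (41, 3), (31, 4), (127, 1), (127, 1), (127, 1), (127, 1), (131, 1), (131, 1), (131, 1), (131, 1), (131, 1), (67, 2), (137, 1), (137, 1), (139, 1), (139, 1), (139, 1), (139, 1), (47, 3), (71, 2), (71, 2), (71, 2), (71, 2), (73, 2), (149, 1), (149, 1), (151, 1), (151, 1), (151, 1), (151, 1), (151, 1), (151, 1), (157, 1)]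

/-- the check in degree `n` with certificate `(p, q)` -/
def okc (n p q : ℕ) : Prop :=
  p ∈ ps ∧ ((q = 1 ∧ p + 3 ≤ n) ∨ (1 ≤ q ∧ q < p ∧ q * p + q + 1 ≤ n ∧ q * p + 5 ≤ n)) ∧
    ∀ t ≤ n - q * p, 1 ≤ t → okU n t (DD (n + 1 - t)) ∧ (2 ≤ t → ∀ k < n, okI n t k)

instance (n p q : ℕ) : Decidable (okc n p q) := by unfold okc; infer_instance

/-- the check in degree `n` -/
def ok (n : ℕ) : Prop := okc n (cert.getD (n - 9) (0, 0)).1 (cert.getD (n - 9) (0, 0)).2

instance (n : ℕ) : Decidable (ok n) := by unfold ok; infer_instance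

theorem chk0 : ∀ i < 51, ok (9 + i) := by decide +kernel
theorem chk1 : ∀ i < 30, ok (60 + i) := by decide +kernel
theorem chk2 : ∀ i < 30, ok (90 + i) := by decide +kernel
theorem chk3 : ∀ i < 20, ok (120 + i) := by decide +kernel
theorem chk4 : ∀ i < 21, ok (140 + i) := by decide +kernel

theorem chk {n : ℕ} (h9 : 9 ≤ n) (hn : n ≤ 160) : ok n := by
  by_cases h : n < 60
  · exact Nat.add_sub_cancel' (show 9 ≤ n by omega) ▸ chk0 _ (by omega)
  by_cases h : n < 90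
  · exact Nat.add_sub_cancel' (show 60 ≤ n by omega) ▸ chk1 _ (by omega)
  by_cases h : n < 120
  · exact Nat.add_sub_cancel' (show 90 ≤ n by omega) ▸ chk2 _ (by omega)
  by_cases h : n < 140
  · exact Nat.add_sub_cancel' (show 120 ≤ n by omega) ▸ chk3 _ (by omega)
  exact Nat.add_sub_cancel' (show 140 ≤ n by omega) ▸ chk4 _ (by omega)

end Q1

open Q1 in
theorem q1 {n t N : ℕ} (h1 : 9 ≤ n) (h2 : n ≤ 160) (hc : Com n t N)
    (h : (∃ d, FU n t N d) ∨ ∃ k, FI n t N k) : N ≤ 4 ^ n := by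
  obtain ⟨c1, c2, c3⟩ := chk h1 h2
  have ht := hc.t_cert (ps_prime _ c1) (T := n - _) le_add_tsub c2
  obtain ⟨⟨u1, u2⟩, h4⟩ := c3 t ht hc.t1
  have hN := eq_prod hc.pos fun p hp => hc.gt hp
  rcases h with ⟨d, h⟩ | ⟨k, h⟩
  · refine hN.le.trans ((prod_le h2 hc fun p hp => ?_).trans u2)
    exact (h.cu.exactX (D_le h.cu.d3 h.cu.db le_rfl u1) hp (muA_pos hp.pos _ _ le_rfl)
      fun q q1 q2 q3 => muA_le hp.pos q1 q2 q3 _ _ q1).trans_eq (add_assoc _ _ _)
  · have := h.ci.half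
    have := h.ci.t2
    have := h.ci.two
    have hp : ∀ p, p.Prime → padicValNat p N ≤ padicValNat p (n / p).factorial + Num1.cI n t k p :=
      fun p hp => (h.ci.pp p hp).trans_eq (add_assoc _ _ _)
    rcases h4 h.ci.t2 k (by omega) h.ci.two h.ci.dvd h.ci.half with c | c
    · exact hN.le.trans ((prod_le h2 hc hp).trans c)
    · exact (FI.clo_le hc h le_rfl le_rfl le_rfl).trans
        ((Nat.mul_le_mul_left _ (prod_le (by omega) hc hp)).trans c)

end CfsgLib.Psx
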