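import Cfsg.Agent.Lib.Psx.QT
import Cfsg.Agent.Lib.Psx.QC

set_option autoImplicit false
set_option Elab.async false

namespace CfsgLib.Psx

theorem okU0 : OKU Num2.PL 161 165 6 11 31 := by decide +kernel
theorem okU1 : OKU Num2.PL 166 172 5 11 32 := by decide +kernel
theorem okU2 : OKU Num2.PL 173 174 7 12 30 := by decide +kernel
theorem okU3 : OKU Num2.PL 175 176 8 12 30 := by decide +kernel
theorem okU4 : OKU Num2.PL 177 182 7 12 31 := by decide +kernel
theorem okU5 : OKU Num2.PL 183 189 6 12 32 := by decide +kernel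
theorem okU6 : OKU Num2.PL 190 197 7 12 33 := by decide +kernel
theorem okU7 : OKU Num2.PL 198 205 6 12 35 := by decide +kernel
theorem okU8 : OKU Num2.PL 206 209 7 13 33 := by decide +kernel
theorem okU9 : OKU Num2.PL 210 214 8 13 33 := by decide +kernel
theorem okU10 : OKU Num2.PL 215 225 7 13 35 := by decide +kernel
theorem okU11 : OKU Num2.PL 226 239 6 13 37 := by decide +kernel
theorem okU12 : OKU Num2.PL 240 251 7 13 39 := by decide +kernel
theorem okU13 : OKU Num2.PL 252 264 8 14 38 := by decide +kernel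
theorem okU14 : OKU Num2.PL 265 281 7 14 41 := by decide +kernel
theorem okU15 : OKU Num2.PL 282 292 8 15 39 := by decide +kernel
theorem okU16 : OKU Num2.PL 293 302 10 15 41 := by decide +kernel
theorem okU17 : OKU Num2.PL 303 314 8 15 42 := by decide +kernel
theorem okU18 : OKU Num2.PL 315 329 8 15 44 := by decide +kernel
theorem okU19 : OKU Num2.PL 330 345 9 16 44 := by decide +kernel
theorem okU20 : OKU Num2.PL 346 361 10 16 46 := by decide +kernel
theorem okU21 : OKU Num2.PL 362 383 8 16 48 := by decide +kernel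
theorem okU22 : OKU Num2.PL 384 407 8 17 48 := by decide +kernel
theorem okU23 : OKU Num2.PL 408 431 9 17 51 := by decide +kernel
theorem okU24 : OKU Num2.PL 432 453 10 18 51 := by decide +kernel
theorem okU25 : OKU Num2.PL 454 481 9 18 54 := by decide +kernel
theorem okU26 : OKU Num2.PL 482 514 10 19 55 := by decide +kernel
theorem okU27 : OKU Num2.PL 515 537 11 19 57 := by decide +kernel
theorem okU28 : OKU Num2.PL 538 553 14 20 56 := by decide +kernel
theorem okU29 : OKU Num2.PL 554 591 10 20 60 := by decide +kernel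
theorem okU30 : OKU Num2.PL 592 641 8 21 62 := by decide +kernel
theorem okU31 : OKU Num2.PL 642 692 10 22 63 := by decide +kernel
theorem okU32 : OKU Num2.PL 693 745 11 22 68 := by decide +kernel
theorem okU33 : OKU Num2.PL 746 801 11 23 70 := by decide +kernel
theorem okU34 : OKU Num2.PL 802 874 9 24 73 := by decide +kernel
theorem okU35 : OKU Num2.PL 875 944 13 25 76 := by decide +kernel
theorem okU36 : OKU Num2.PL 945 1031 10 26 80 := by decide +kernel
theorem okU37 : OKU Num2.PL 1032 1136 11 27 85 := by decide +kernel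
theorem okU38 : OKU Num2.PL 1137 1241 10 28 89 := by decide +kernel
theorem okU39 : OKU Num2.PL 1242 1351 15 30 91 := by decide +kernel
theorem okU40 : OKU Num2.PL 1352 1487 11 31 96 := by decide +kernel
theorem okU41 : OKU Num2.PL 1488 1653 11 32 104 := by decide +kernel
theorem okU42 : OKU Num2.PL 1654 1821 12 34 108 := by decide +kernel
theorem okU43 : OKU Num2.PL 1822 2022 11 36 113 := by decide +kernel
theorem okU44 : OKU Num2.PL 2023 2244 12 38 119 := by decide +kernel
theorem okU45 : OKU Num2.PL 2245 2499 11 40 125 := by decide +kernel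
theorem okU46 : OKU Num2.PL 2500 2786 16 42 133 := by decide +kernel
theorem okU47 : OKU Num2.PL 2787 3100 14 44 141 := by decide +kernel
theorem okU48 : OKU Num2.PL 3101 3455 14 46 151 := by decide +kernel
theorem okU49 : OKU Num2.PL 3456 3867 16 49 158 := by decide +kernel
theorem okU50 : OKU Num2.PL 3868 4327 16 52 167 := by decide +kernel
theorem okU51 : OKU Num2.PL 4328 4863 14 55 177 := by decide +kernel
theorem okU52 : OKU Num2.PL 4864 5468 16 58 189 := by decide +kernel
theorem okU53 : OKU Num2.PL 5469 6177 15 61 203 := by decide +kernel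
theorem okU54 : OKU Num2.PL 6178 6997 15 65 216 := by decide +kernel
theorem okU55 : OKU Num2.PL 6998 7925 14 69 230 := by decide +kernel
theorem okU56 : OKU Num2.PL 7926 8995 17 74 244 := by decide +kernel
theorem okU57 : OKU Num2.PL 8996 10225 16 78 263 := by decide +kernel
theorem okU58 : OKU Num2.PL 10226 11630 19 83 281 := by decide +kernel
theorem okU59 : OKU Num2.PL 11631 13284 19 89 299 := by decide +kernel
theorem okU60 : OKU Num2.PL 13285 15127 18 95 319 := by decide +kernel
theorem okU61 : OKU Num2.PL 15128 16384 19 101 325 := by decide +kernel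

theorem q2U {n t N d : ℕ} (h1 : 161 ≤ n) (h2 : n ≤ 16384) (hc : Com n t N) (h : FU n t N d) :
    N ≤ 4 ^ n := by
  obtain ⟨x, hx, x1, x2⟩ := TL_cover h1 h2
  have hT := hc.t_tab hx x1 x2
  simp only [TL, List.mem_cons, List.not_mem_nil, or_false] at hx
  rcases hx with rfl | rfl | rfl | rfl | rfl | rfl | rfl | rfl | rfl | rfl | rfl | rfl | rfl | rfl | rfl | rfl | rfl | rfl | rfl | rfl | rfl | rfl | rfl | rfl | rfl | rfl | rfl | rfl | rfl | rfl | rfl | rfl | rfl | rfl | rfl | rfl | rfl | rfl | rfl | rfl | rfl | rfl | rfl | rfl | rfl | rfl | rfl | rfl | rfl | rfl | rfl | rfl | rfl | rfl | rfl | rfl | rfl | rfl | rfl | rfl | rfl | rfl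
  · exact chunkU (fun p hp h3 => Num2.mem_PL hp (by omega)) okU0 x1 x2 hc hT h
  · exact chunkU (fun p hp h3 => Num2.mem_PL hp (by omega)) okU1 x1 x2 hc hT h
  · exact chunkU (fun p hp h3 => Num2.mem_PL hp (by omega)) okU2 x1 x2 hc hT h
  · exact chunkU (fun p hp h3 => Num2.mem_PL hp (by omega)) okU3 x1 x2 hc hT h
  · exact chunkU (fun p hp h3 => Num2.mem_PL hp (by omega)) okU4 x1 x2 hc hT h
  · exact chunkU (fun p hp h3 => Num2.mem_PL hp (by omega)) okU5 x1 x2 hc hT h
  · exact chunkU (fun p hp h3 => Num2.mem_PL hp (by omega)) okU6 x1 x2 hc hT h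
  · exact chunkU (fun p hp h3 => Num2.mem_PL hp (by omega)) okU7 x1 x2 hc hT h
  · exact chunkU (fun p hp h3 => Num2.mem_PL hp (by omega)) okU8 x1 x2 hc hT h
  · exact chunkU (fun p hp h3 => Num2.mem_PL hp (by omega)) okU9 x1 x2 hc hT h
  · exact chunkU (fun p hp h3 => Num2.mem_PL hp (by omega)) okU10 x1 x2 hc hT h
  · exact chunkU (fun p hp h3 => Num2.mem_PL hp (by omega)) okU11 x1 x2 hc hT h
  · exact chunkU (fun p hp h3 => Num2.mem_PL hp (by omega)) okU12 x1 x2 hc hT h
  · exact chunkU (fun p hp h3 => Num2.mem_PL hp (by omega)) okU13 x1 x2 hc hT h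
  · exact chunkU (fun p hp h3 => Num2.mem_PL hp (by omega)) okU14 x1 x2 hc hT h
  · exact chunkU (fun p hp h3 => Num2.mem_PL hp (by omega)) okU15 x1 x2 hc hT h
  · exact chunkU (fun p hp h3 => Num2.mem_PL hp (by omega)) okU16 x1 x2 hc hT h
  · exact chunkU (fun p hp h3 => Num2.mem_PL hp (by omega)) okU17 x1 x2 hc hT h
  · exact chunkU (fun p hp h3 => Num2.mem_PL hp (by omega)) okU18 x1 x2 hc hT h
  · exact chunkU (fun p hp h3 => Num2.mem_PL hp (by omega)) okU19 x1 x2 hc hT h
  · exact chunkU (fun p hp h3 => Num2.mem_PL hp (by omega)) okU20 x1 x2 hc hT h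
  · exact chunkU (fun p hp h3 => Num2.mem_PL hp (by omega)) okU21 x1 x2 hc hT h
  · exact chunkU (fun p hp h3 => Num2.mem_PL hp (by omega)) okU22 x1 x2 hc hT h
  · exact chunkU (fun p hp h3 => Num2.mem_PL hp (by omega)) okU23 x1 x2 hc hT h
  · exact chunkU (fun p hp h3 => Num2.mem_PL hp (by omega)) okU24 x1 x2 hc hT h
  · exact chunkU (fun p hp h3 => Num2.mem_PL hp (by omega)) okU25 x1 x2 hc hT h
  · exact chunkU (fun p hp h3 => Num2.mem_PL hp (by omega)) okU26 x1 x2 hc hT h
  · exact chunkU (fun p hp h3 => Num2.mem_PL hp (by omega)) okU27 x1 x2 hc hT h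
  · exact chunkU (fun p hp h3 => Num2.mem_PL hp (by omega)) okU28 x1 x2 hc hT h
  · exact chunkU (fun p hp h3 => Num2.mem_PL hp (by omega)) okU29 x1 x2 hc hT h
  · exact chunkU (fun p hp h3 => Num2.mem_PL hp (by omega)) okU30 x1 x2 hc hT h
  · exact chunkU (fun p hp h3 => Num2.mem_PL hp (by omega)) okU31 x1 x2 hc hT h
  · exact chunkU (fun p hp h3 => Num2.mem_PL hp (by omega)) okU32 x1 x2 hc hT h
  · exact chunkU (fun p hp h3 => Num2.mem_PL hp (by omega)) okU33 x1 x2 hc hT h
  · exact chunkU (fun p hp h3 => Num2.mem_PL hp (by omega)) okU34 x1 x2 hc hT h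
  · exact chunkU (fun p hp h3 => Num2.mem_PL hp (by omega)) okU35 x1 x2 hc hT h
  · exact chunkU (fun p hp h3 => Num2.mem_PL hp (by omega)) okU36 x1 x2 hc hT h
  · exact chunkU (fun p hp h3 => Num2.mem_PL hp (by omega)) okU37 x1 x2 hc hT h
  · exact chunkU (fun p hp h3 => Num2.mem_PL hp (by omega)) okU38 x1 x2 hc hT h
  · exact chunkU (fun p hp h3 => Num2.mem_PL hp (by omega)) okU39 x1 x2 hc hT h
  · exact chunkU (fun p hp h3 => Num2.mem_PL hp (by omega)) okU40 x1 x2 hc hT h
  · exact chunkU (fun p hp h3 => Num2.mem_PL hp (by omega)) okU41 x1 x2 hc hT h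
  · exact chunkU (fun p hp h3 => Num2.mem_PL hp (by omega)) okU42 x1 x2 hc hT h
  · exact chunkU (fun p hp h3 => Num2.mem_PL hp (by omega)) okU43 x1 x2 hc hT h
  · exact chunkU (fun p hp h3 => Num2.mem_PL hp (by omega)) okU44 x1 x2 hc hT h
  · exact chunkU (fun p hp h3 => Num2.mem_PL hp (by omega)) okU45 x1 x2 hc hT h
  · exact chunkU (fun p hp h3 => Num2.mem_PL hp (by omega)) okU46 x1 x2 hc hT h
  · exact chunkU (fun p hp h3 => Num2.mem_PL hp (by omega)) okU47 x1 x2 hc hT h
  · exact chunkU (fun p hp h3 => Num2.mem_PL hp (by omega)) okU48 x1 x2 hc hT h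
  · exact chunkU (fun p hp h3 => Num2.mem_PL hp (by omega)) okU49 x1 x2 hc hT h
  · exact chunkU (fun p hp h3 => Num2.mem_PL hp (by omega)) okU50 x1 x2 hc hT h
  · exact chunkU (fun p hp h3 => Num2.mem_PL hp (by omega)) okU51 x1 x2 hc hT h
  · exact chunkU (fun p hp h3 => Num2.mem_PL hp (by omega)) okU52 x1 x2 hc hT h
  · exact chunkU (fun p hp h3 => Num2.mem_PL hp (by omega)) okU53 x1 x2 hc hT h
  · exact chunkU (fun p hp h3 => Num2.mem_PL hp (by omega)) okU54 x1 x2 hc hT h
  · exact chunkU (fun p hp h3 => Num2.mem_PL hp (by omega)) okU55 x1 x2 hc hT h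
  · exact chunkU (fun p hp h3 => Num2.mem_PL hp (by omega)) okU56 x1 x2 hc hT h
  · exact chunkU (fun p hp h3 => Num2.mem_PL hp (by omega)) okU57 x1 x2 hc hT h
  · exact chunkU (fun p hp h3 => Num2.mem_PL hp (by omega)) okU58 x1 x2 hc hT h
  · exact chunkU (fun p hp h3 => Num2.mem_PL hp (by omega)) okU59 x1 x2 hc hT h
  · exact chunkU (fun p hp h3 => Num2.mem_PL hp (by omega)) okU60 x1 x2 hc hT h
  · exact chunkU (fun p hp h3 => Num2.mem_PL hp (by omega)) okU61 x1 x2 hc hT h

end CfsgLib.Psx
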