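import Cfsg.Agent.Lib.Psx.QLib

set_option autoImplicit false
set_option Elab.async false

namespace CfsgLib.Psx

def npx (p : ℕ) : ℕ → ℕ → Bool
  | 0, _ => false
  | f + 1, d => Nat.blt p (d * d) || (p % d != 0 && npx p f (d + 1))

theorem npx_sound {p : ℕ} : ∀ f d, npx p f d = true → ∀ e, d ≤ e → e * e ≤ p → ¬ e ∣ p
  | 0, _, h => by simp [npx] at h
  | f + 1, d, h => by
    intro e he hp hd
    simp only [npx, Bool.or_eq_true, Nat.blt_eq, Bool.and_eq_true, bne_iff_ne] at h
    rcases h with h | ⟨h1, h2⟩
    · have := Nat.mul_le_mul he he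
      omega
    · rcases he.eq_or_lt with rfl | h3
      · exact h1 (Nat.mod_eq_zero_of_dvd hd)
      · exact npx_sound f (d + 1) h2 e h3 hp hd

theorem npx_prime {p f : ℕ} (h2 : 2 ≤ p) (h : npx p f 2 = true) : p.Prime :=
  Nat.prime_def_le_sqrt.2 ⟨h2, fun m h1 h3 => npx_sound f 2 h m h1 (Nat.le_sqrt.1 h3)⟩

def walkT (T hi : ℕ) : ℕ → List (ℕ × ℕ) → Bool
  | n, [] => Nat.blt hi n
  | n, x :: l => Nat.ble 2 x.1 && npx x.1 200 2 &&
      ((x.2 == 1 && Nat.ble (x.1 + 3) n) || (Nat.ble 1 x.2 && Nat.blt x.2 x.1 &&
        Nat.ble (x.2 * x.1 + x.2 + 1) n && Nat.ble (x.2 * x.1 + 5) n)) &&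
      walkT T hi (x.2 * x.1 + T + 1) l

theorem walkT_sound {T hi m t N : ℕ} (hc : Com m t N) (hm : m ≤ hi) :
    ∀ (l : List (ℕ × ℕ)) (n : ℕ), walkT T hi n l = true → n ≤ m → t ≤ T
  | [], n, h, hn => by
    simp only [walkT, Nat.blt_eq] at h
    omega
  | x :: l, n, h, hn => by
    simp only [walkT, Bool.and_eq_true, Bool.or_eq_true, Nat.ble_eq, Nat.blt_eq, beq_iff_eq] at h
    obtain ⟨⟨⟨h1, h2⟩, h3⟩, h4⟩ := h
    by_cases e : m ≤ x.2 * x.1 + T
    · exact hc.t_cert (npx_prime h1 h2) e (by omega)
    · exact walkT_sound hc hm l _ h4 (by omega)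

theorem wT0 : walkT 6 165 161
    [(157,1), (53,3)] = true := by decide +kernel

theorem wT1 : walkT 5 172 166
    [(163,1), (41,4), (167,1)] = true := by decide +kernel

theorem wT2 : walkT 7 174 173
    [(167,1)] = true := by decide +kernel

theorem wT3 : walkT 8 176 175
    [(167,1), (173,1)] = true := by decide +kernel

theorem wT4 : walkT 7 182 177
    [(173,1), (29,6), (179,1)] = true := by decide +kernel

theorem wT5 : walkT 6 189 183
    [(179,1), (181,1), (61,3)] = true := by decide +kernel

theorem wT6 : walkT 7 197 190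
    [(61,3), (37,5), (47,4), (193,1)] = true := by decide +kernel

theorem wT7 : walkT 6 205 198
    [(193,1), (197,1), (199,1)] = true := by decide +kernel

theorem wT8 : walkT 7 209 206
    [(67,3), (101,2)] = true := by decide +kernel

theorem wT9 : walkT 8 214 210
    [(101,2), (103,2)] = true := by decide +kernel

theorem wT10 : walkT 7 225 215
    [(211,1), (107,2), (43,5), (109,2)] = true := by decide +kernel

theorem wT11 : walkT 6 239 226
    [(223,1), (227,1), (229,1), (233,1)] = true := by decide +kernel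

theorem wT12 : walkT 7 251 240
    [(233,1), (59,4), (241,1), (61,4)] = true := by decide +kernel

theorem wT13 : walkT 8 264 252
    [(61,4), (41,6), (251,1), (257,1)] = true := by decide +kernel

theorem wT14 : walkT 7 281 265
    [(43,6), (263,1), (53,5), (269,1), (271,1), (137,2)] = true := by decide +kernel

theorem wT15 : walkT 8 292 282
    [(277,1), (283,1), (71,4)] = true := by decide +kernel

theorem wT16 : walkT 10 302 293
    [(71,4), (41,7), (293,1)] = true := by decide +kernel

theorem wT17 : walkT 8 314 303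
    [(149,2), (151,2), (307,1)] = true := by decide +kernel

theorem wT18 : walkT 8 329 315
    [(311,1), (317,1), (107,3)] = true := by decide +kernel

theorem wT19 : walkT 9 345 330
    [(107,3), (163,2), (331,1), (337,1)] = true := by decide +kernel

theorem wT20 : walkT 10 361 346
    [(113,3), (347,1), (353,1)] = true := by decide +kernel

theorem wT21 : walkT 8 383 362
    [(359,1), (181,2), (367,1), (373,1), (379,1)] = true := by decide +kernel

theorem wT22 : walkT 8 407 384
    [(379,1), (383,1), (389,1), (131,3), (397,1), (401,1)] = true := by decide +kernel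

theorem wT23 : walkT 9 431 408
    [(401,1), (101,4), (409,1), (103,4), (419,1), (211,2)] = true := by decide +kernel

theorem wT24 : walkT 10 453 432
    [(211,2), (107,4), (433,1), (439,1), (443,1)] = true := by decide +kernel

theorem wT25 : walkT 9 481 454
    [(449,1), (227,2), (461,1), (467,1), (157,3), (79,6)] = true := by decide +kernel

theorem wT26 : walkT 10 514 482
    [(479,1), (487,1), (491,1), (499,1), (503,1), (509,1)] = true := by decide +kernel

theorem wT27 : walkT 11 537 515
    [(509,1), (103,5), (523,1), (263,2)] = true := by decide +kernel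

theorem wT28 : walkT 14 553 538
    [(263,2), (107,5), (547,1)] = true := by decide +kernel

theorem wT29 : walkT 10 591 554
    [(137,4), (277,2), (557,1), (563,1), (571,1), (577,1), (193,3), (587,1)] = true := by decide +kernel

theorem wT30 : walkT 8 641 592
    [(587,1), (593,1), (599,1), (601,1), (607,1), (613,1), (619,1), (311,2), (313,2), (631,1),
     (317,2)] = true := by decide +kernel

theorem wT31 : walkT 10 692 642
    [(127,5), (643,1), (647,1), (653,1), (661,1), (331,2), (167,4), (337,2), (113,6), (683,1)] = true := by decide +kernel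

theorem wT32 : walkT 11 745 693
    [(229,3), (347,2), (701,1), (709,1), (179,4), (241,3), (727,1), (367,2)] = true := by decide +kernel

theorem wT33 : walkT 11 801 746
    [(743,1), (751,1), (379,2), (191,4), (773,1), (389,2), (787,1), (397,2)] = true := by decide +kernel

theorem wT34 : walkT 9 874 802
    [(797,1), (401,2), (809,1), (271,3), (409,2), (823,1), (829,1), (277,3), (167,5), (839,1),
     (211,4), (283,3), (853,1), (859,1), (863,1), (433,2)] = true := by decide +kernel

theorem wT35 : walkT 13 944 875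
    [(433,2), (877,1), (887,1), (179,5), (449,2), (907,1), (229,4), (461,2), (929,1), (937,1)] = true := by decide +kernel

theorem wT36 : walkT 10 1031 945
    [(941,1), (947,1), (953,1), (479,2), (241,4), (971,1), (977,1), (983,1), (991,1), (997,1),
     (499,2), (251,4), (1009,1), (1013,1), (1021,1)] = true := by decide +kernel

theorem wT37 : walkT 11 1136 1032
    [(1021,1), (257,4), (1033,1), (1039,1), (523,2), (263,4), (1061,1), (1069,1), (269,4), (541,2),
     (1091,1), (1097,1), (1103,1), (1109,1), (1117,1), (281,4), (1129,1)] = true := by decide +kernel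

theorem wT38 : walkT 10 1241 1137
    [(283,4), (569,2), (571,2), (191,6), (1153,1), (577,2), (193,6), (1163,1), (1171,1), (587,2),
     (1181,1), (1187,1), (1193,1), (1201,1), (241,5), (1213,1), (1217,1), (1223,1), (1231,1)] = true := by decide +kernel

theorem wT39 : walkT 15 1351 1242
    [(1237,1), (1249,1), (1259,1), (317,4), (1279,1), (1291,1), (1303,1), (1307,1), (1319,1), (443,3),
     (223,6)] = true := by decide +kernel

theorem wT40 : walkT 11 1487 1352
    [(449,3), (677,2), (1361,1), (1367,1), (1373,1), (1381,1), (347,4), (463,3), (349,4), (701,2),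
     (1409,1), (283,5), (1423,1), (1429,1), (359,4), (1439,1), (1447,1), (727,2), (487,3), (367,4),
     (491,3), (1481,1)] = true := by decide +kernel

theorem wT41 : walkT 11 1653 1488
    [(1483,1), (1489,1), (1493,1), (1499,1), (751,2), (1511,1), (379,4), (1523,1), (1531,1), (769,2),
     (1543,1), (1549,1), (389,4), (521,3), (1571,1), (1579,1), (317,5), (227,7), (1597,1), (401,4),
     (1613,1), (1621,1), (1627,1), (233,7), (1637,1), (821,2)] = true := by decide +kernel

theorem wT42 : walkT 12 1821 1654
    [(823,2), (827,2), (1663,1), (557,3), (839,2), (337,5), (1693,1), (1699,1), (1709,1), (857,2),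
     (1723,1), (1733,1), (1741,1), (1747,1), (877,2), (881,2), (883,2), (887,2), (1783,1), (1789,1),
     (599,3), (601,3), (1811,1)] = true := by decide +kernel

theorem wT43 : walkT 11 2022 1822
    [(907,2), (1823,1), (1831,1), (919,2), (1847,1), (463,4), (1861,1), (467,4), (1877,1), (941,2),
     (1889,1), (379,5), (1901,1), (1907,1), (1913,1), (479,4), (641,3), (1931,1), (967,2), (647,3),
     (1949,1), (977,2), (653,3), (983,2), (1973,1), (1979,1), (1987,1), (997,2), (2003,1), (2011,1)] = true := by decide +kernel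

theorem wT44 : walkT 12 2244 2023
    [(1009,2), (2027,1), (677,3), (2039,1), (409,5), (2053,1), (2063,1), (2069,1), (691,3), (2083,1),
     (2089,1), (2099,1), (421,5), (2113,1), (353,6), (1063,2), (2131,1), (2141,1), (2143,1), (2153,1),
     (2161,1), (433,5), (271,8), (1087,2), (1091,2), (547,4), (439,5), (2203,1), (2213,1), (2221,1),
     (743,3), (2239,1)] = true := by decide +kernel

theorem wT45 : walkT 11 2499 2245
    [(2239,1), (1123,2), (751,3), (1129,2), (2267,1), (2273,1), (2281,1), (2287,1), (2293,1), (383,6),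
     (1151,2), (2311,1), (463,5), (773,3), (1163,2), (2333,1), (2341,1), (587,4), (2357,1), (1181,2),
     (2371,1), (2377,1), (2383,1), (2389,1), (599,4), (1201,2), (2411,1), (2417,1), (2423,1), (607,4),
     (2437,1), (2441,1), (2447,1), (613,4), (2459,1), (2467,1), (1237,2), (827,3), (829,3), (311,8)] = true := by decide +kernel

theorem wT46 : walkT 16 2786 2500
    [(311,8), (1249,2), (313,8), (503,5), (631,4), (2531,1), (2543,1), (2557,1), (1283,2), (2579,1),
     (2593,1), (1301,2), (1307,2), (2621,1), (2633,1), (2647,1), (2659,1), (2671,1), (2683,1), (2693,1),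
     (2707,1), (2719,1), (2731,1), (2741,1), (2753,1), (2767,1), (2777,1)] = true := by decide +kernel

theorem wT47 : walkT 14 3100 2787
    [(397,7), (2791,1), (2803,1), (937,3), (2819,1), (353,8), (2833,1), (2843,1), (2851,1), (2861,1),
     (1433,2), (719,4), (2887,1), (2897,1), (2909,1), (1459,2), (2927,1), (2939,1), (983,3), (2957,1),
     (2969,1), (1489,2), (1493,2), (599,5), (751,4), (3011,1), (3023,1), (757,4), (3037,1), (3049,1),
     (3061,1), (3067,1), (3079,1), (3089,1)] = true := by decide +kernel

theorem wT48 : walkT 14 3455 3101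
    [(619,5), (443,7), (3109,1), (3121,1), (521,6), (3137,1), (1049,3), (631,5), (3167,1), (317,10),
     (3181,1), (3191,1), (3203,1), (3209,1), (3221,1), (3229,1), (1619,2), (541,6), (3257,1), (653,5),
     (1637,2), (821,4), (823,4), (3301,1), (3313,1), (3323,1), (3331,1), (3343,1), (1117,3), (3361,1),
     (3373,1), (563,6), (3389,1), (1699,2), (3407,1), (683,5), (1709,2), (857,4), (859,4), (1723,2)] = true := by decide +kernel

theorem wT49 : walkT 16 3867 3456
    [(3449,1), (3463,1), (3469,1), (347,10), (1741,2), (1747,2), (1753,2), (1759,2), (3529,1), (3541,1),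
     (887,4), (3559,1), (3571,1), (3583,1), (3593,1), (3607,1), (3617,1), (3631,1), (3643,1), (1217,3),
     (1831,2), (3673,1), (613,6), (3691,1), (3701,1), (1237,3), (1861,2), (1867,2), (1873,2), (1879,2),
     (3769,1), (3779,1), (3793,1), (3803,1), (1907,2), (1913,2), (1279,3), (3851,1)] = true := by decide +kernel

theorem wT50 : walkT 16 4327 3868
    [(3863,1), (3877,1), (3889,1), (1949,2), (3911,1), (3923,1), (983,4), (3943,1), (3947,1), (1979,2),
     (3967,1), (1987,2), (1993,2), (1999,2), (4007,1), (4021,1), (4027,1), (1009,4), (4049,1), (2029,2),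
     (677,6), (4073,1), (1021,4), (4093,1), (1367,3), (4111,1), (1373,3), (4133,1), (1381,3), (4157,1),
     (2083,2), (2089,2), (523,8), (1049,4), (701,6), (4219,1), (4231,1), (4243,1), (4253,1), (2131,2),
     (2137,2), (2143,2), (4297,1), (2153,2), (1439,3)] = true := by decide +kernel

theorem wT51 : walkT 14 4863 4328
    [(2161,2), (541,8), (4339,1), (4349,1), (1453,3), (1091,4), (4373,1), (1459,3), (877,5), (4397,1),
     (4409,1), (4421,1), (2213,2), (1109,4), (4447,1), (4457,1), (1489,3), (2237,2), (4483,1), (4493,1),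
     (2251,2), (4513,1), (4523,1), (1511,3), (2269,2), (4549,1), (4561,1), (1523,3), (2287,2), (4583,1),
     (1531,3), (4603,1), (1153,4), (2311,2), (1543,3), (4639,1), (4651,1), (4663,1), (4673,1), (2341,2),
     (4691,1), (4703,1), (1571,3), (4723,1), (4733,1), (2371,2), (4751,1), (4759,1), (2383,2), (1193,4),
     (4783,1), (4793,1), (1601,3), (4813,1), (2411,2), (4831,1), (1613,3), (2423,2), (971,5)] = true := by decide +kernel

theorem wT52 : walkT 16 5468 4864
    [(4861,1), (4871,1), (2441,2), (2447,2), (4903,1), (1637,3), (4919,1), (4933,1), (4943,1), (4957,1),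
     (4969,1), (829,6), (4987,1), (4999,1), (5011,1), (5023,1), (457,11), (5039,1), (5051,1), (2531,2),
     (563,9), (5081,1), (1697,3), (2551,2), (2557,2), (569,9), (1283,4), (857,6), (5153,1), (5167,1),
     (5179,1), (5189,1), (1733,3), (5209,1), (2609,2), (5231,1), (2621,2), (1049,5), (1051,5), (2633,2),
     (5279,1), (881,6), (5297,1), (5309,1), (5323,1), (5333,1), (5347,1), (2677,2), (2683,2), (2689,2),
     (5387,1), (5399,1), (5413,1), (2711,2), (1811,3), (1361,4), (1091,5)] = true := by decide +kernel

theorem wT53 : walkT 15 6177 5469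
    [(2731,2), (5471,1), (5483,1), (1831,3), (5503,1), (787,7), (5521,1), (5531,1), (1847,3), (1109,5),
     (5557,1), (5569,1), (5581,1), (5591,1), (2801,2), (1871,3), (5623,1), (1877,3), (5641,1), (5653,1),
     (5659,1), (5669,1), (811,7), (5689,1), (5701,1), (5711,1), (2861,2), (1433,4), (5743,1), (5749,1),
     (2879,2), (1153,5), (2887,2), (5783,1), (2897,2), (5807,1), (2909,2), (5827,1), (5839,1), (5851,1),
     (5861,1), (5869,1), (5881,1), (1471,4), (5897,1), (2953,2), (2957,2), (5927,1), (5939,1), (1487,4),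
     (1489,4), (1193,5), (1493,4), (5981,1), (1997,3), (3001,2), (6011,1), (3011,2), (2011,3), (1511,4),
     (6053,1), (673,9), (6067,1), (6079,1), (6091,1), (6101,1), (6113,1), (1531,4), (3067,2), (6143,1),
     (6151,1), (6163,1)] = true := by decide +kernel

theorem wT54 : walkT 15 6997 6178
    [(6173,1), (883,7), (2063,3), (6199,1), (6211,1), (6221,1), (6229,1), (3119,2), (2083,3), (6257,1),
     (6269,1), (6277,1), (6287,1), (6299,1), (6311,1), (6323,1), (3167,2), (6343,1), (6353,1), (3181,2),
     (6373,1), (3191,2), (2131,3), (1601,4), (2137,3), (6421,1), (2143,3), (1609,4), (6449,1), (2153,3),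
     (6469,1), (6481,1), (6491,1), (3251,2), (1627,4), (6521,1), (6529,1), (2179,3), (1637,4), (6553,1),
     (6563,1), (6571,1), (6581,1), (941,7), (6599,1), (2203,3), (6619,1), (1657,4), (2213,3), (3323,2),
     (6659,1), (1667,4), (6679,1), (6691,1), (6703,1), (2237,3), (3361,2), (6733,1), (3371,2), (2251,3),
     (6763,1), (1693,4), (3391,2), (6793,1), (6803,1), (3407,2), (6827,1), (1709,4), (2281,3), (761,9),
     (6857,1), (6869,1), (2293,3), (1721,4), (1723,4), (6899,1), (6911,1), (3461,2), (2311,3), (3469,2),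
     (6949,1), (6961,1), (6971,1), (6983,1)] = true := by decide +kernel

theorem wT55 : walkT 14 7925 6998
    [(6991,1), (7001,1), (7013,1), (2341,3), (7027,1), (7039,1), (1409,5), (7057,1), (7069,1), (7079,1),
     (1181,6), (3547,2), (7103,1), (2371,3), (7121,1), (2377,3), (1427,5), (2381,3), (7151,1), (7159,1),
     (2389,3), (7177,1), (7187,1), (2399,3), (7207,1), (7219,1), (7229,1), (7237,1), (7247,1), (1451,5),
     (3631,2), (2423,3), (3637,2), (7283,1), (1823,4), (7297,1), (7309,1), (7321,1), (7333,1), (3671,2),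
     (7351,1), (1051,7), (7369,1), (2459,3), (3691,2), (7393,1), (3701,2), (7411,1), (2473,3), (1237,6),
     (7433,1), (3719,2), (1489,5), (7457,1), (3733,2), (7477,1), (7489,1), (7499,1), (2503,3), (7517,1),
     (7529,1), (7541,1), (7549,1), (7561,1), (7573,1), (7583,1), (2531,3), (7603,1), (1087,7), (7621,1),
     (2543,3), (7639,1), (7649,1), (1531,5), (1277,6), (7673,1), (7681,1), (7691,1), (7703,1), (3853,2),
     (7717,1), (7727,1), (2579,3), (1549,5), (7757,1), (1553,5), (2591,3), (2593,3), (7789,1), (1949,4),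
     (1951,4), (3907,2), (7823,1), (7829,1), (7841,1), (7853,1), (2621,3), (7873,1), (7883,1), (1973,4),
     (7901,1), (7907,1), (7919,1)] = true := by decide +kernel

theorem wT56 : walkT 17 8995 7926
    [(7919,1), (7933,1), (2647,3), (7951,1), (7963,1), (1993,4), (3989,2), (7993,1), (4003,2), (8017,1),
     (4013,2), (8039,1), (8053,1), (1613,5), (1009,8), (8087,1), (8101,1), (4057,2), (8123,1), (1627,5),
     (8147,1), (8161,1), (8171,1), (4091,2), (2731,3), (1367,6), (2053,4), (2741,3), (8237,1), (2749,3),
     (2753,3), (8273,1), (8287,1), (8297,1), (8311,1), (2081,4), (1667,5), (2087,4), (8363,1), (8377,1),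
     (8389,1), (4201,2), (2803,3), (8423,1), (4217,2), (8447,1), (8461,1), (941,9), (4241,2), (1213,7),
     (8501,1), (8513,1), (8527,1), (8539,1), (2137,4), (8563,1), (1429,6), (2861,3), (8597,1), (8609,1),
     (8623,1), (1439,6), (8647,1), (4327,2), (8669,1), (8681,1), (8693,1), (8707,1), (8719,1), (8731,1),
     (8741,1), (8753,1), (1753,5), (8779,1), (8783,1), (1759,5), (8807,1), (8821,1), (8831,1), (4421,2),
     (2213,4), (8867,1), (1109,8), (8887,1), (1483,6), (2969,3), (1783,5), (8929,1), (8941,1), (8951,1),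
     (8963,1), (2243,4), (1283,7)] = true := by decide +kernel

theorem wT57 : walkT 16 10225 8996
    [(4493,2), (8999,1), (9013,1), (4507,2), (4513,2), (4519,2), (9049,1), (9059,1), (3023,3), (2269,4),
     (1009,9), (2273,4), (9103,1), (3037,3), (3041,3), (9137,1), (9151,1), (9161,1), (9173,1), (9187,1),
     (9199,1), (9209,1), (9221,1), (9227,1), (9241,1), (3083,3), (1543,6), (3089,3), (9281,1), (9293,1),
     (4651,2), (4657,2), (4663,2), (9337,1), (9349,1), (4679,2), (9371,1), (4691,2), (9391,1), (9403,1),
     (9413,1), (9421,1), (9433,1), (4721,2), (1181,8), (9461,1), (9473,1), (2371,4), (9497,1), (9511,1),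
     (9521,1), (9533,1), (9547,1), (2389,4), (4783,2), (4789,2), (9587,1), (9601,1), (9613,1), (9623,1),
     (4817,2), (2411,4), (1931,5), (1933,5), (9679,1), (9689,1), (9697,1), (1213,8), (1619,6), (4861,2),
     (9733,1), (9743,1), (4877,2), (9767,1), (9781,1), (9791,1), (9803,1), (9817,1), (9829,1), (9839,1),
     (9851,1), (4931,2), (4937,2), (9887,1), (9901,1), (2477,4), (4957,2), (9923,1), (4967,2), (4973,2),
     (3319,3), (3323,3), (1663,6), (3329,3), (4999,2), (10009,1), (5009,2), (3343,3), (3347,3), (5023,2),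
     (2011,5), (10069,1), (10079,1), (10093,1), (10103,1), (3371,3), (2531,4), (2027,5), (2029,5), (10159,1),
     (10169,1), (10181,1), (10193,1), (2551,4), (5107,2)] = true := by decide +kernel

theorem wT58 : walkT 19 11630 10226
    [(10223,1), (5119,2), (10253,1), (10267,1), (10273,1), (10289,1), (10303,1), (2579,4), (10333,1), (3449,3),
     (5179,2), (2593,4), (3461,3), (10399,1), (1487,7), (5209,2), (10433,1), (1741,6), (10463,1), (10477,1),
     (10487,1), (10501,1), (10513,1), (10529,1), (1171,9), (3517,3), (10567,1), (3527,3), (10597,1), (10613,1),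
     (2657,4), (3547,3), (10657,1), (3557,3), (10687,1), (5351,2), (2143,5), (10729,1), (3581,3), (2689,4),
     (10771,1), (5393,2), (10799,1), (5407,2), (10831,1), (10847,1), (5431,2), (2719,4), (10891,1), (10903,1),
     (2729,4), (3643,3), (5471,2), (10957,1), (10973,1), (10987,1), (11003,1), (2203,5), (11027,1), (5521,2),
     (11059,1), (3691,3), (11087,1), (11093,1), (2777,4), (11119,1), (11131,1), (5573,2), (11161,1), (11177,1),
     (2797,4), (3733,3), (11213,1), (1871,6), (11243,1), (11257,1), (11273,1), (11287,1), (5651,2), (11317,1),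
     (2833,4), (2269,5), (11353,1), (11369,1), (11383,1), (11399,1), (11411,1), (11423,1), (11437,1), (11447,1),
     (1637,7), (5737,2), (11491,1), (11503,1), (11519,1), (11527,1), (3847,3), (2311,5), (5783,2), (11579,1),
     (11593,1), (5801,2), (11617,1)] = true := by decide +kernel

theorem wT59 : walkT 19 13284 11631
    [(5813,2), (2909,4), (3881,3), (11657,1), (1667,7), (11681,1), (2339,5), (2927,4), (5861,2), (2347,5),
     (11743,1), (5879,2), (3923,3), (11783,1), (5897,2), (11807,1), (11821,1), (11833,1), (5923,2), (11863,1),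
     (5939,2), (11887,1), (11903,1), (2383,5), (11927,1), (11941,1), (11953,1), (11969,1), (1997,6), (2999,4),
     (12011,1), (6011,2), (12037,1), (12049,1), (4021,3), (3019,4), (6043,2), (12101,1), (2423,5), (12119,1),
     (6067,2), (12149,1), (3041,4), (6089,2), (1741,7), (12203,1), (12211,1), (12227,1), (6121,2), (12253,1),
     (12269,1), (12281,1), (2459,5), (1367,9), (3079,4), (12329,1), (12343,1), (3089,4), (12373,1), (4129,3),
     (12401,1), (2069,6), (1553,8), (12437,1), (12451,1), (4153,3), (12473,1), (12487,1), (12503,1), (12517,1),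
     (4177,3), (12547,1), (6277,2), (12569,1), (12583,1), (6299,2), (12613,1), (6311,2), (12637,1), (12653,1),
     (3167,4), (2113,6), (4231,3), (6353,2), (12721,1), (6367,2), (3187,4), (12763,1), (6389,2), (12791,1),
     (12799,1), (4271,3), (12829,1), (6421,2), (6427,2), (3217,4), (1609,8), (12889,1), (6451,2), (12919,1),
     (1847,7), (12941,1), (2591,5), (12967,1), (12983,1), (1181,11), (13007,1), (4339,3), (13033,1), (13049,1),
     (13063,1), (2179,6), (4363,3), (13103,1), (1873,7), (13127,1), (6571,2), (13159,1), (4391,3), (13187,1),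
     (6599,2), (3301,4), (13219,1), (13229,1), (2207,6), (13259,1), (6637,2)] = true := by decide +kernel

theorem wT60 : walkT 18 15127 13285
    [(2213,6), (3323,4), (6653,2), (6659,2), (13331,1), (4447,3), (4451,3), (13367,1), (13381,1), (13397,1),
     (13411,1), (2237,6), (3359,4), (13451,1), (13463,1), (13477,1), (13487,1), (13499,1), (13513,1), (6763,2),
     (4513,3), (13553,1), (13567,1), (13577,1), (13591,1), (2267,6), (2269,6), (3407,4), (4547,3), (6827,2),
     (13669,1), (4561,3), (13697,1), (13711,1), (13723,1), (3433,4), (2749,5), (13759,1), (4591,3), (13789,1),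
     (13799,1), (4603,3), (6911,2), (2767,5), (3461,4), (13859,1), (13873,1), (2777,5), (13901,1), (13913,1),
     (6961,2), (6967,2), (4649,3), (13963,1), (4657,3), (6991,2), (13997,1), (14011,1), (2003,7), (14033,1),
     (3511,4), (14057,1), (14071,1), (14087,1), (2819,5), (4703,3), (2017,7), (3533,4), (14143,1), (14159,1),
     (14173,1), (4729,3), (4733,3), (14207,1), (14221,1), (3557,4), (14243,1), (2851,5), (1783,8), (4759,3),
     (14293,1), (2861,5), (14321,1), (3583,4), (14347,1), (4787,3), (7187,2), (14389,1), (4801,3), (14419,1),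
     (14431,1), (14447,1), (14461,1), (7237,2), (14489,1), (14503,1), (14519,1), (14533,1), (14549,1), (14563,1),
     (3643,4), (2917,5), (7297,2), (1123,13), (4871,3), (14629,1), (7321,2), (14657,1), (14669,1), (14683,1),
     (14699,1), (14713,1), (4909,3), (14741,1), (14753,1), (14767,1), (14783,1), (14797,1), (14813,1), (14827,1),
     (14843,1), (2971,5), (14869,1), (14879,1), (14891,1), (7451,2), (7457,2), (14929,1), (14939,1), (14951,1),
     (7481,2), (7487,2), (1873,8), (7499,2), (15013,1), (5009,3), (7517,2), (7523,2), (15061,1), (15077,1),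
     (15091,1), (15107,1), (15121,1)] = true := by decide +kernel

theorem wT61 : walkT 19 16384 15128
    [(7561,2), (15139,1), (7577,2), (7583,2), (7589,2), (15193,1), (7603,2), (15217,1), (15233,1), (3049,5),
     (15259,1), (15271,1), (15287,1), (15299,1), (15313,1), (15329,1), (2557,6), (15359,1), (7687,2), (15391,1),
     (7703,2), (3083,5), (15427,1), (15443,1), (7727,2), (15467,1), (7741,2), (15497,1), (15511,1), (15527,1),
     (15541,1), (3889,4), (15569,1), (15583,1), (3119,5), (15607,1), (15619,1), (7817,2), (15649,1), (15661,1),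
     (3919,4), (3137,5), (5233,3), (5237,3), (15727,1), (15739,1), (7877,2), (15767,1), (1753,9), (15791,1),
     (15803,1), (15817,1), (15823,1), (7919,2), (3169,5), (15859,1), (7937,2), (15889,1), (7951,2), (15919,1),
     (5309,3), (15937,1), (1993,8), (15959,1), (15973,1), (7993,2), (16001,1), (3203,5), (4007,4), (5347,3),
     (16057,1), (16073,1), (16087,1), (16103,1), (8059,2), (16127,1), (16141,1), (3229,5), (2693,6), (2309,7),
     (8089,2), (16193,1), (4051,4), (16217,1), (16231,1), (8123,2), (5419,3), (16273,1), (3257,5), (16301,1),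
     (4079,4), (16333,1), (16349,1), (4091,4), (16381,1)] = true := by decide +kernel

theorem Com.t_tab {n t N : ℕ} (h : Com n t N) {x : ℕ × ℕ × ℕ × ℕ × ℕ} (hx : x ∈ TL)
    (h1 : x.1 ≤ n) (h2 : n ≤ x.2.1) : t ≤ x.2.2.1 := by
  simp only [TL, List.mem_cons, List.not_mem_nil, or_false] at hx
  rcases hx with rfl | rfl | rfl | rfl | rfl | rfl | rfl | rfl | rfl | rfl | rfl | rfl | rfl | rfl | rfl | rfl | rfl | rfl | rfl | rfl | rfl | rfl | rfl | rfl | rfl | rfl | rfl | rfl | rfl | rfl | rfl | rfl | rfl | rfl | rfl | rfl | rfl | rfl | rfl | rfl | rfl | rfl | rfl | rfl | rfl | rfl | rfl | rfl | rfl | rfl | rfl | rfl | rfl | rfl | rfl | rfl | rfl | rfl | rfl | rfl | rfl | rfl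
  · exact walkT_sound h h2 _ _ wT0 h1
  · exact walkT_sound h h2 _ _ wT1 h1
  · exact walkT_sound h h2 _ _ wT2 h1
  · exact walkT_sound h h2 _ _ wT3 h1
  · exact walkT_sound h h2 _ _ wT4 h1
  · exact walkT_sound h h2 _ _ wT5 h1
  · exact walkT_sound h h2 _ _ wT6 h1
  · exact walkT_sound h h2 _ _ wT7 h1
  · exact walkT_sound h h2 _ _ wT8 h1
  · exact walkT_sound h h2 _ _ wT9 h1
  · exact walkT_sound h h2 _ _ wT10 h1
  · exact walkT_sound h h2 _ _ wT11 h1
  · exact walkT_sound h h2 _ _ wT12 h1
  · exact walkT_sound h h2 _ _ wT13 h1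
  · exact walkT_sound h h2 _ _ wT14 h1
  · exact walkT_sound h h2 _ _ wT15 h1
  · exact walkT_sound h h2 _ _ wT16 h1
  · exact walkT_sound h h2 _ _ wT17 h1
  · exact walkT_sound h h2 _ _ wT18 h1
  · exact walkT_sound h h2 _ _ wT19 h1
  · exact walkT_sound h h2 _ _ wT20 h1
  · exact walkT_sound h h2 _ _ wT21 h1
  · exact walkT_sound h h2 _ _ wT22 h1
  · exact walkT_sound h h2 _ _ wT23 h1
  · exact walkT_sound h h2 _ _ wT24 h1
  · exact walkT_sound h h2 _ _ wT25 h1
  · exact walkT_sound h h2 _ _ wT26 h1
  · exact walkT_sound h h2 _ _ wT27 h1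
  · exact walkT_sound h h2 _ _ wT28 h1
  · exact walkT_sound h h2 _ _ wT29 h1
  · exact walkT_sound h h2 _ _ wT30 h1
  · exact walkT_sound h h2 _ _ wT31 h1
  · exact walkT_sound h h2 _ _ wT32 h1
  · exact walkT_sound h h2 _ _ wT33 h1
  · exact walkT_sound h h2 _ _ wT34 h1
  · exact walkT_sound h h2 _ _ wT35 h1
  · exact walkT_sound h h2 _ _ wT36 h1
  · exact walkT_sound h h2 _ _ wT37 h1
  · exact walkT_sound h h2 _ _ wT38 h1
  · exact walkT_sound h h2 _ _ wT39 h1
  · exact walkT_sound h h2 _ _ wT40 h1
  · exact walkT_sound h h2 _ _ wT41 h1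
  · exact walkT_sound h h2 _ _ wT42 h1
  · exact walkT_sound h h2 _ _ wT43 h1
  · exact walkT_sound h h2 _ _ wT44 h1
  · exact walkT_sound h h2 _ _ wT45 h1
  · exact walkT_sound h h2 _ _ wT46 h1
  · exact walkT_sound h h2 _ _ wT47 h1
  · exact walkT_sound h h2 _ _ wT48 h1
  · exact walkT_sound h h2 _ _ wT49 h1
  · exact walkT_sound h h2 _ _ wT50 h1
  · exact walkT_sound h h2 _ _ wT51 h1
  · exact walkT_sound h h2 _ _ wT52 h1
  · exact walkT_sound h h2 _ _ wT53 h1
  · exact walkT_sound h h2 _ _ wT54 h1
  · exact walkT_sound h h2 _ _ wT55 h1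
  · exact walkT_sound h h2 _ _ wT56 h1
  · exact walkT_sound h h2 _ _ wT57 h1
  · exact walkT_sound h h2 _ _ wT58 h1
  · exact walkT_sound h h2 _ _ wT59 h1
  · exact walkT_sound h h2 _ _ wT60 h1
  · exact walkT_sound h h2 _ _ wT61 h1

end CfsgLib.Psx
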